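import Mathlib
import Cfsg.Agent.TcData.HNX.Common

set_option autoImplicit false
set_option Elab.async false
set_option maxRecDepth 100000
set_option linter.all false

namespace Cfsg.Agent.TcData.HNX.Cl

open Cfsg.Spor Cfsg.Agent.Lib.TcFacts Cfsg.Agent.Lib.TcBits Cfsg.Agent.Lib.TcPres Cfsg.Spor.HN Cfsg.Agent.TcData.HNX

/-- The generators of the subgroup. -/
abbrev SS : Set (FreeGroup Gen) := {}

/-- The subgroup. -/
abbrev HH : Subgroup (PresentedGroup RR) := (Subgroup.closure SS).map (PresentedGroup.mk RR)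

/-- Long generators of the subgroup. -/
noncomputable def macros : List (FreeGroup Gen) := []

/-- The relators, as words in letters. -/
def Rels : List (List ℕ) := [
  [2, 2, 2, 2, 2, 2],
  [0, 0, 2, 0, 0, 3],
  [1, 3, 0, 2, 1, 3, 0, 2, 1, 3, 0, 2],
  [1, 2, 2, 0, 2, 2, 2, 1, 2, 2, 0, 2, 2, 2, 1, 2, 2, 0, 2, 2, 2],
  [0, 2, 0, 2, 0, 2, 0, 2, 0, 2, 0, 2, 0, 2, 0, 2],
  [0, 2, 0, 2, 2, 2, 0, 2, 0, 2, 2, 2, 0, 2, 0, 2, 2, 2, 0, 2, 0, 2, 2, 2],
  [4, 4],
  [4, 0, 4, 0],
  [4, 2, 1, 3, 3, 1, 3, 1, 3, 4, 2, 0, 2, 0, 2, 2, 0, 3, 1, 1],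
  [4, 3, 1, 3, 1, 3, 3, 3, 4, 2, 2, 2, 0, 2, 0, 2, 0, 3, 1, 3, 1, 3, 3, 3, 4, 2, 2, 2, 0, 2, 0, 2, 0, 3, 1, 3, 1, 3, 3, 3, 4, 2, 2, 2, 0, 2, 0, 2, 0],
  [5, 5, 5, 5, 5],
  [1, 5, 0, 5, 5],
  [6, 3, 5, 2],
  [4, 5, 4, 5, 4, 5],
  [0, 2, 2, 4, 3, 5],
  [3, 3, 3, 3, 3, 3],
  [2, 1, 1, 3, 1, 1],
  [3, 1, 2, 0, 3, 1, 2, 0, 3, 1, 2, 0],
  [3, 3, 3, 1, 3, 3, 0, 3, 3, 3, 1, 3, 3, 0, 3, 3, 3, 1, 3, 3, 0],
  [3, 1, 3, 1, 3, 1, 3, 1, 3, 1, 3, 1, 3, 1, 3, 1],
  [3, 3, 3, 1, 3, 1, 3, 3, 3, 1, 3, 1, 3, 3, 3, 1, 3, 1, 3, 3, 3, 1, 3, 1],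
  [4, 4],
  [1, 4, 1, 4],
  [0, 0, 2, 1, 3, 3, 1, 3, 1, 3, 4, 2, 0, 2, 0, 2, 2, 0, 3, 4],
  [1, 3, 1, 3, 1, 3, 3, 3, 4, 2, 2, 2, 0, 2, 0, 2, 1, 3, 1, 3, 1, 3, 3, 3, 4, 2, 2, 2, 0, 2, 0, 2, 1, 3, 1, 3, 1, 3, 3, 3, 4, 2, 2, 2, 0, 2, 0, 2, 4],
  [6, 6, 6, 6, 6],
  [6, 6, 1, 6, 0],
  [3, 6, 2, 5],
  [6, 4, 6, 4, 6, 4],
  [6, 2, 4, 3, 3, 1],
  [0, 1],
  [1, 0],
  [2, 3],
  [3, 2],
  [4, 4],
  [4, 4],
  [5, 6],
  [6, 5]]

/-- The table. -/
noncomputable def T : Tr := (.node (.node (.node (.node (.leaf (nat_lit 0x8e3ce040000000000000000f00407001e00000040608000430e5023400e180068a80304c0162200a0204087802400000000400d00405801c2400c0e0050500201800c0400400000000000000000000000000000000000000000000000)) (.leaf (nat_lit 0x4966d460000000000000000258426ca097751534c229000242ce11800000000000000000000000000000000000000010d38d014820f80000000000000000000000000000000000809a641220f340000000000000000000010c111126a6))) (.node (.leaf (nat_lit 0x21685714000000000000000120413024197aa1cb5077800106e1396000000000000000000000000004d05191031000081791d0000000000000000000000000000000000000000033c89e280000000000000006e08e0f850dd815c00000))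 (.leaf (nat_lit 0x61dfa94c000000000000000000001fc298000000000000030b4ac880000000000000000000000000000000000000001696c98a00000000001f0316000000000000000000000000b3b1811d721c2bc46000000ac092bd052c0000000000)))) (.node (.node (.leaf (nat_lit 0x11e5d21400000000007b018bc80c050284ee02f7301700008b0a488de02d630163100ac48204bc02a5c014ac00a0000419d54656013aa00994404a9c0244a01188020924044000169b660a380843840200000000001685580000084020)) (.leaf (nat_lit 0x525bc32c00000000000000000000000000000000000000028a89d2800000000003014597c2140000000000000000001434cfa40000047089000000000008b39380000174194000a0672cd00000000000000000000000000164114b44cf))) (.node (.leaf (nat_lit 0x2b000000000000000000000000000dc690cc0ac000000001567db8a661c500000000000000006830769585342c3c000a9994c4000000000000000000000000000000000000000053d1b020000000000000000caa230000000000000000)) (.leaf (nat_lit 0x0))))) (.node (.node (.node (.leaf (nat_lit 0xacf3604303828001f000001a8468a82aa000003c00f0000533eb020000000000050604e803a7001c0000000000000027a6ac13600d990068c403260018080a097005c0000000012d4b409580589c02a4a0140608091804c8402440011))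 (.leaf (nat_lit 0x4b523c260c3e8ae209000004604a400001146de000000002568dd92aa1c98611a80000000000000000000000000000129609090000056a3954831354114ab3180000014c4980009300000469da69dfc80000000000000000000009e497))) (.node (.leaf (nat_lit 0x28caad28000012022d00000488b7a4c2a8a00a42f06280011a85c8800000000003086a8b059000000000000000000008b40e04280e20000000000052287000000000000000000044c1545d42150000004c184923ebd4a2940000000000)) (.leaf (nat_lit 0x1c000000851f34408d000000000000000000000000000000d0a57a4c390d60874e00000000000000020411a00000)))) (.node (.node (.leaf (nat_lit 0x19634d100000000000000000e840dacbbab60a80000000009a618047e1de1b10100000000000e416d000004200d40004b2ebc2190e12288800000000000000000000020006800024c4963000000000002c1827e019be80c8000002e246)) (.leaf (nat_lit 0x58dcc48c0000000000000000000000000168953780658002c2ee3080000000000000000000000000074045ba99400014d288178f3cbb8082800000e22ce0000000000000000000a5965c532072800000000006a14680000000000ca55b))) (.node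 (.leaf (nat_lit 0x3aceb5050438e00000000000000000000000000000000001c2658848c4203e1c700000000000000003d043800000000c78b3130000000000000000d810f3b0a30000000000000062c9a0c000000000000000039083369840000017c0d3)) (.leaf (nat_lit 0x0))))))

/-- The words. -/
noncomputable def WT : Tr := (.node (.node (.node (.node (.node (.node (.leaf (nat_lit 0x12)) (.leaf (nat_lit 0x316453))) (.node (.leaf (nat_lit 0x411311)) (.leaf (nat_lit 0x0)))) (.node (.node (.leaf (nat_lit 0x6374)) (.leaf (nat_lit 0x4441442444144244414428))) (.node (.leaf (nat_lit 0x62661)) (.leaf (nat_lit 0x0))))) (.node (.node (.node (.leaf (nat_lit 0x55)) (.leaf (nat_lit 0x5331648))) (.node (.leaf (nat_lit 0x172778)) (.leaf (nat_lit 0x0)))) (.node (.node (.leaf (nat_lit 0x16266)) (.leaf (nat_lit 0x0))) (.node (.leaf (nat_lit 0x71727)) (.leaf (nat_lit 0x0)))))) (.node (.node (.node (.node (.leaf (nat_lit 0x34)) (.leaf (nat_lit 0x5656568))) (.node (.leaf (nat_lit 0x331645)) (.leaf (nat_lit 0x0)))) (.node (.node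 (.leaf (nat_lit 0x6473)) (.leaf (nat_lit 0x0))) (.node (.leaf (nat_lit 0x224223)) (.leaf (nat_lit 0x0))))) (.node (.node (.node (.leaf (nat_lit 0x76)) (.leaf (nat_lit 0x242232))) (.node (.leaf (nat_lit 0x333333)) (.leaf (nat_lit 0x0)))) (.node (.node (.leaf (nat_lit 0x77777)) (.leaf (nat_lit 0x0))) (.node (.leaf (nat_lit 0x6453318)) (.leaf (nat_lit 0x0))))))) (.node (.node (.node (.node (.node (.leaf (nat_lit 0x21)) (.leaf (nat_lit 0x3746))) (.node (.leaf (nat_lit 0x131141)) (.leaf (nat_lit 0x0)))) (.node (.node (.leaf (nat_lit 0x7364)) (.leaf (nat_lit 0x3331313331313331313331318))) (.node (.leaf (nat_lit 0x77172)) (.leaf (nat_lit 0x0))))) (.node (.node (.node (.leaf (nat_lit 0x67)) (.leaf (nat_lit 0x1645338))) (.node (.leaf (nat_lit 0x164533)) (.leaf (nat_lit 0x0)))) (.node (.node (.leaf (nat_lit 0x17277)) (.leaf (nat_lit 0x0))) (.node (.leaf (nat_lit 0x537244)) (.leaf (nat_lit 0x0)))))) (.node (.node (.node (.node (.leaf (nat_lit 0x43)) (.leaf (nat_lit 0x232242)))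 (.node (.leaf (nat_lit 0x645331)) (.leaf (nat_lit 0x0)))) (.node (.node (.leaf (nat_lit 0x7463)) (.leaf (nat_lit 0x0))) (.node (.leaf (nat_lit 0x4637)) (.leaf (nat_lit 0x0))))) (.node (.node (.node (.leaf (nat_lit 0x5151)) (.leaf (nat_lit 0x4113118))) (.node (.leaf (nat_lit 0x141131)) (.leaf (nat_lit 0x0)))) (.node (.node (.leaf (nat_lit 0x311411)) (.leaf (nat_lit 0x0))) (.node (.leaf (nat_lit 0x3647)) (.leaf (nat_lit 0x0))))))))

/-- Side data. -/
noncomputable def ST : Tr := (.node (.leaf (nat_lit 0x20210c42885a80033009700b48005e12d22158809940060226500148c99cc4ce6266005010458c22a204718239817cc0c26048085018278c11c608d195614a5cabda0028)) (.leaf (nat_lit 0x10114431831531823106246c46314b20a58443c0038315018218c43c69ba318c)))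

/-- Hints for the words. -/
noncomputable def HT : Tr := (.node (.node (.node (.node (.node (.node (.leaf (nat_lit 0x101e)) (.leaf (nat_lit 0x200e))) (.node (.leaf (nat_lit 0x1)) (.leaf (nat_lit 0x0)))) (.node (.node (.leaf (nat_lit 0x1b)) (.leaf (nat_lit 0x1003012))) (.node (.leaf (nat_lit 0x200b)) (.leaf (nat_lit 0x0))))) (.node (.node (.node (.leaf (nat_lit 0x6)) (.leaf (nat_lit 0x100400e))) (.node (.leaf (nat_lit 0x100001a)) (.leaf (nat_lit 0x0)))) (.node (.node (.leaf (nat_lit 0x300b)) (.leaf (nat_lit 0x0))) (.node (.leaf (nat_lit 0x101a)) (.leaf (nat_lit 0x0)))))) (.node (.node (.node (.node (.leaf (nat_lit 0x1020)) (.leaf (nat_lit 0x100100d))) (.node (.leaf (nat_lit 0x300e)) (.leaf (nat_lit 0x0)))) (.node (.node (.leaf (nat_lit 0x300c)) (.leaf (nat_lit 0x0))) (.node (.leaf (nat_lit 0x10)) (.leaf (nat_lit 0x0))))) (.node (.node (.node (.leaf (nat_lit 0x24)) (.leaf (nat_lit 0x5010))) (.node (.leaf (nat_lit 0x0)) (.leaf (nat_lit 0x0)))) (.node (.node (.leaf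 (nat_lit 0x19)) (.leaf (nat_lit 0x0))) (.node (.leaf (nat_lit 0x100000e)) (.leaf (nat_lit 0x0))))))) (.node (.node (.node (.node (.node (.leaf (nat_lit 0x1e)) (.leaf (nat_lit 0x301b))) (.node (.leaf (nat_lit 0x4001)) (.leaf (nat_lit 0x0)))) (.node (.node (.leaf (nat_lit 0x100c)) (.leaf (nat_lit 0x1000005))) (.node (.leaf (nat_lit 0x201a)) (.leaf (nat_lit 0x0))))) (.node (.node (.node (.leaf (nat_lit 0x1024)) (.leaf (nat_lit 0x100100e))) (.node (.leaf (nat_lit 0x100e)) (.leaf (nat_lit 0x0)))) (.node (.node (.leaf (nat_lit 0x1a)) (.leaf (nat_lit 0x0))) (.node (.leaf (nat_lit 0x301d)) (.leaf (nat_lit 0x0)))))) (.node (.node (.node (.node (.leaf (nat_lit 0x20)) (.leaf (nat_lit 0x2010))) (.node (.leaf (nat_lit 0xe)) (.leaf (nat_lit 0x0)))) (.node (.node (.leaf (nat_lit 0x201b)) (.leaf (nat_lit 0x0))) (.node (.leaf (nat_lit 0x101b)) (.leaf (nat_lit 0x0))))) (.node (.node (.node (.leaf (nat_lit 0x1007)) (.leaf (nat_lit 0x1000001))) (.node (.leaf (nat_lit 0x1001)) (.leaf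 (nat_lit 0x0)))) (.node (.node (.leaf (nat_lit 0x3001)) (.leaf (nat_lit 0x0))) (.node (.leaf (nat_lit 0xc)) (.leaf (nat_lit 0x0))))))))

/-- An entry of the table. -/
noncomputable def ent (u a : ℕ) : ℕ :=
  Nat.land
    (Nat.shiftRight
      (Nat.rec (motive := fun _ => ℕ) (Tr.get T 0) (fun m _ => Tr.get T (Nat.succ m))
        (Nat.shiftRight u 2))
      (Nat.add (Nat.mul (Nat.land u 3) 189) (Nat.mul a 21)))
    2097151

/-- The parent of a label. -/
noncomputable def pa (v : ℕ) : ℕ := ent v 8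

/-- A word. -/
noncomputable def wd (k : ℕ) : ℕ := Tr.get WT k

/-- Side data. -/
noncomputable def side (k : ℕ) : ℕ :=
  Nat.land
    (Nat.shiftRight
      (Nat.rec (motive := fun _ => ℕ) (Tr.get ST 0) (fun m _ => Tr.get ST (Nat.succ m))
        (Nat.shiftRight k 5))
      (Nat.mul (Nat.land k 31) 17))
    131071

/-- A hint. -/
noncomputable def hint (k : ℕ) : ℕ := Tr.get HT k

/-- The letters of the subgroup. -/
def baseL : List ℕ := []

/-- Is a letter in the subgroup. -/
noncomputable def base (a : ℕ) : Bool := baseL.contains a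

/-- The check of a row. -/
noncomputable def F : ℕ → Bool :=
  rowF ent pa wd side base 7 63 6 13 63 4 15 8 25 127 42 64 256

/-- Being alive. -/
noncomputable def al : ℕ → Bool := aliveB ent 7 64

end Cfsg.Agent.TcData.HNX.Cl
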